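import Cfsg.Agent.H46.J4Low.Lower
import Cfsg.Agent.H46.J4Out.Bridge
import Cfsg.Agent.Golay.Simple
import Cfsg.Agent.H56.J4.Upper

/-!
The order of the presented `J4`, given that `⟨x, y, h⟩` has order at most `2^11 |M24|`.
-/

set_option autoImplicit false
set_option maxRecDepth 100000

namespace Cfsg.Agent.H46.J4Low

open Cfsg Cfsg.Agent.H45 Cfsg.Agent.H45.J4Rep Cfsg.Agent.Golay Cfsg.Agent.H46.J4Out

theorem rho_jx : rho H56.J4.jx = rho gx := rfl

theorem rho_jy : rho H56.J4.jy = rho gy := rfl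

theorem rho_hh : rho H56.J4.hh = rho (eF 0) := by
  have ryi : R gy⁻¹ J4Rep.yiN := R.inv R_y (by decide +kernel)
  have rv := (((R_y.mul' R_x).pow 4).mul' ryi).mul' R_x
  have hv : ((gy * gx) ^ 4 * gy⁻¹ * gx)⁻¹ = gx⁻¹ * gy * (gx⁻¹ * gy⁻¹) ^ 4 := by
    rw [mul_inv_rev, mul_inv_rev, inv_inv, ← inv_pow, mul_inv_rev, mul_assoc]
  have rxi : R gx⁻¹ J4Rep.xN := R.inv R_x (by decide +kernel)
  have rvi : R ((gy * gx) ^ 4 * gy⁻¹ * gx)⁻¹
      (J4Mat.mulN 112 (J4Mat.mulN 112 J4Rep.xN J4Rep.yN)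
        (J4Mat.powN 112 (J4Mat.mulN 112 J4Rep.xN J4Rep.yiN) 4)) := by
    rw [hv]; exact (rxi.mul' R_y).mul' ((rxi.mul' ryi).pow 4)
  have hh_word : H56.J4.hh =
      (gy * (((gy * gx) ^ 4 * gy⁻¹ * gx)⁻¹ * gt * ((gy * gx) ^ 4 * gy⁻¹ * gx))) ^ 3 := by
    simp [H56.J4.hh, H56.J4.vH, H56.J4.jl_zero, H56.J4.jl_one, H56.J4.jl_two, pow_succ, mul_assoc,
      H56.J4.jx, H56.J4.jy, H56.J4.jt, gx, gy, gt]
  rw [hh_word]
  exact rho_eq ((R_y.mul' ((rvi.mul' R_t).mul' rv)).pow 3) (r_eF 0) (by decide +kernel)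

/-- the image of the embedded `M24` -/
noncomputable def psi : M24 →* GL112 := rho.comp H56.J4.phi

theorem psi_x : psi xP = rho gx := by
  show rho (H56.J4.phi xP) = rho gx
  rw [xP_eq]
  exact congrArg rho J4Main.exists_embedding.choose_spec.2.1

theorem psi_range : psi.range = Subgroup.closure {rho gx, rho gy} := by
  show (rho.comp H56.J4.phi).range = _
  rw [MonoidHom.range_comp, H56.J4.phi_range, MonoidHom.map_closure, Set.image_pair]
  rfl

theorem psi_injective : Function.Injective psi := by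
  haveI : IsSimpleGroup M24 := isSimpleGroup_M24
  rw [← MonoidHom.ker_eq_bot_iff]
  refine psi.normal_ker.eq_bot_or_eq_top.resolve_right fun h => J4Rep.ux_ne_one ?_
  have h1 : psi xP = 1 := by rw [← MonoidHom.mem_ker, h]; exact Subgroup.mem_top _
  rw [psi_x] at h1
  exact (rho_of _).symm.trans h1

/-- the image of the elementary subgroup -/
noncomputable def eImg : Subgroup GL112 where
  carrier := Set.range fun n : Fin 2048 => rho (theta n.val)
  one_mem' := by
    refine ⟨0, ?_⟩
    have h := rho_thetaAux_xor 0 0 11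
    rw [Nat.xor_self] at h
    exact left_eq_mul.1 h
  mul_mem' := by
    rintro _ _ ⟨a, rfl⟩ ⟨b, rfl⟩
    exact ⟨⟨a.val ^^^ b.val, Nat.xor_lt_two_pow (n := 11) a.isLt b.isLt⟩,
      rho_thetaAux_xor a.val b.val 11⟩
  inv_mem' := by
    rintro _ ⟨a, rfl⟩
    refine ⟨a, (inv_eq_of_mul_eq_one_left ?_).symm⟩
    have h := rho_thetaAux_xor a.val a.val 11
    rw [Nat.xor_self] at h
    have h0 := rho_thetaAux_xor 0 0 11
    rw [Nat.xor_self] at h0
    exact h.symm.trans (left_eq_mul.1 h0)

theorem mem_eImg_comm {a b : GL112} (ha : a ∈ eImg) (hb : b ∈ eImg) : a * b = b * a := by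
  obtain ⟨m, rfl⟩ := ha
  obtain ⟨n, rfl⟩ := hb
  show rho (thetaAux m.val 11) * rho (thetaAux n.val 11) = _
  rw [← rho_thetaAux_xor, Nat.xor_comm, rho_thetaAux_xor]
  rfl

theorem rho_eF_mem (k : ℕ) : rho (eF k) ∈ eImg := by
  rcases Nat.lt_or_ge k 11 with hk | hk
  · refine ⟨⟨2 ^ k, Nat.pow_lt_pow_right (a := 2) (n := 11) one_lt_two hk⟩, ?_⟩
    exact rho_eq (r_theta _) (r_eF k)
      (eq_of_beq (List.all_eq_true.1 single_checks k (List.mem_range.2 hk)))
  · rw [eF_of_le hk, map_one]; exact one_mem _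

theorem conj_eImg {g : J} {gN : ℕ} (hg : R g gN) (M : List ℕ)
    (hM : ((List.range 11).all fun k => decide (M.getD k 0 < 2048)) = true)
    (h : ((List.range 11).all fun k =>
      J4Mat.mulN 112 gN (eN k) == J4Mat.mulN 112 (thetaN (M.getD k 0)) gN) = true) :
    rho g ∈ Subgroup.normalizer (eImg : Set GL112) := by
  have hclo : ∀ n : Fin 2048, rho g * rho (theta n.val) * (rho g)⁻¹ ∈ eImg := by
    intro n
    have : ∀ k, k ≤ 11 → rho g * rho (thetaAux n.val k) * (rho g)⁻¹ ∈ eImg := by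
      intro k
      induction k with
      | zero => intro _; rw [thetaAux, map_one, mul_one, mul_inv_cancel]; exact one_mem _
      | succ k ih =>
        intro hk
        rw [thetaAux, map_mul, show rho g * (rho (thetaAux n.val k) *
          rho (if n.val.testBit k then eF k else 1)) * (rho g)⁻¹ =
          rho g * rho (thetaAux n.val k) * (rho g)⁻¹ *
            (rho g * rho (if n.val.testBit k then eF k else 1) * (rho g)⁻¹) by group]
        refine mul_mem (ih (by omega)) ?_
        split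
        · have hk' : k < 11 := by omega
          refine ⟨⟨M.getD k 0, of_decide_eq_true (List.all_eq_true.1 hM k (List.mem_range.2 hk'))⟩, ?_⟩
          rw [eq_mul_inv_iff_mul_eq, ← map_mul, ← map_mul]
          exact (rho_eq (hg.mul' (r_eF k)) ((r_theta _).mul' hg)
            (eq_of_beq (List.all_eq_true.1 h k (List.mem_range.2 hk')))).symm
        · rw [map_one, mul_one, mul_inv_cancel]; exact one_mem _
    exact this 11 le_rfl
  haveI : Finite (eImg : Set GL112) := Finite.Set.finite_range _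
  exact Subgroup.mem_normalizer_fintype fun e ⟨n, hn⟩ => hn ▸ hclo n

theorem mx_lt : ((List.range 11).all fun k => decide (Mx.getD k 0 < 2048)) = true := by
  decide +kernel

theorem my_lt : ((List.range 11).all fun k => decide (My.getD k 0 < 2048)) = true := by
  decide +kernel

theorem psi_normalizes (σ : M24) : psi σ ∈ Subgroup.normalizer (eImg : Set GL112) := by
  have h : psi σ ∈ psi.range := ⟨σ, rfl⟩
  rw [psi_range] at h
  refine (Subgroup.closure_le _).2 ?_ h
  rintro g (rfl | rfl)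
  · exact conj_eImg R_x Mx mx_lt x_checks
  · exact conj_eImg R_y My my_lt y_checks

theorem comap_eImg : eImg.comap psi = ⊥ := by
  haveI : IsSimpleGroup M24 := isSimpleGroup_M24
  haveI : (eImg.comap psi).Normal := ⟨fun n hn g => by
    rw [Subgroup.mem_comap, map_mul, map_mul, map_inv]
    exact (Subgroup.mem_normalizer_iff.1 (psi_normalizes g) _).1 hn⟩
  refine (Subgroup.Normal.eq_bot_or_eq_top ‹_›).resolve_right fun h => ?_
  have hc : ∀ σ τ : M24, σ * τ = τ * σ := fun σ τ => psi_injective (by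
    rw [map_mul, map_mul]
    exact mem_eImg_comm (Subgroup.mem_comap.1 (h ▸ Subgroup.mem_top σ))
      (Subgroup.mem_comap.1 (h ▸ Subgroup.mem_top τ)))
  have hu : uP * xP = xP * uP := hc _ _
  revert hu
  exact fun hu => absurd (congrArg (fun f : M24 => (f : Equiv.Perm GolayPt) (some 0)) hu)
    (by decide +kernel : (uPerm (Cfsg.Agent.H46.J4Out.xPerm (some 0))) ≠
      Cfsg.Agent.H46.J4Out.xPerm (uPerm (some 0)))

theorem theta_def (n : ℕ) : theta n = thetaAux n 11 := rfl

theorem card_pairs' : Nat.card (Fin 2048 × M24) = 501397585920 := by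
  rw [Nat.card_prod, Nat.card_fin, card_M24]

theorem card_le_of_factor {Γ : Type*} [Group Γ] {ι α : Type*} (H : Subgroup Γ) [Finite H]
    (f : ι → Γ) (g : α → Γ) (hf : ∀ i, f i ∈ H) (hg : ∀ x, g x ∈ H)
    (hinj : ∀ i j x y, f i * g x = f j * g y → i = j ∧ x = y) :
    Nat.card (ι × α) ≤ Nat.card H := by
  refine Nat.card_le_card_of_injective
    (fun q : ι × α => (⟨f q.1 * g q.2, mul_mem (hf q.1) (hg q.2)⟩ : H)) fun ⟨i, x⟩ ⟨j, y⟩ h => ?_
  obtain ⟨e1, e2⟩ := hinj i j x y (congrArg Subtype.val h)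
  exact Prod.ext e1 e2

theorem pair_inj {a b : Fin 2048} {σ τ : M24}
    (h : rho (theta a.val) * psi σ = rho (theta b.val) * psi τ) : a = b ∧ σ = τ := by
  have hc : σ * τ⁻¹ ∈ eImg.comap psi := by
    rw [Subgroup.mem_comap, map_mul, map_inv,
      show psi σ * (psi τ)⁻¹ = (rho (theta a.val))⁻¹ * rho (theta b.val) by
        rw [mul_inv_eq_iff_eq_mul, mul_assoc, ← h, inv_mul_cancel_left]]
    exact mul_mem (inv_mem ⟨a, rfl⟩) ⟨b, rfl⟩
  rw [comap_eImg, Subgroup.mem_bot, mul_inv_eq_one] at hc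
  subst hc
  exact ⟨Fin.ext (theta_injOn a.isLt b.isLt (mul_right_cancel h)), rfl⟩

attribute [local irreducible] rho theta thetaAux eF gx gy in
theorem card_HH_ge [Finite J] : 501397585920 ≤ Nat.card H56.J4.HH := by
  have hmem : ∀ g ∈ H56.J4.HH, rho g ∈ H56.J4.HH.map rho := fun g hg => ⟨g, hg, rfl⟩
  have hx : rho gx ∈ H56.J4.HH.map rho :=
    rho_jx ▸ hmem _ (Subgroup.subset_closure (by simp))
  have hy : rho gy ∈ H56.J4.HH.map rho :=
    rho_jy ▸ hmem _ (Subgroup.subset_closure (by simp))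
  have he : rho (eF 0) ∈ H56.J4.HH.map rho :=
    rho_hh ▸ hmem _ (Subgroup.subset_closure (by simp))
  have hek : ∀ k, rho (eF k) ∈ H56.J4.HH.map rho := fun k =>
    eF_mem (K := (H56.J4.HH.map rho).comap rho) hx hy he k
  have hth : ∀ n k, rho (thetaAux n k) ∈ H56.J4.HH.map rho := by
    intro n k
    induction k with
    | zero => rw [thetaAux, map_one]; exact one_mem _
    | succ k ih =>
      rw [thetaAux, map_mul]
      refine mul_mem ih ?_
      split
      · exact hek k
      · rw [map_one]; exact one_mem _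
  have hps : ∀ σ, psi σ ∈ H56.J4.HH.map rho := by
    intro σ
    have h : psi σ ∈ psi.range := ⟨σ, rfl⟩
    rw [psi_range] at h
    refine (Subgroup.closure_le _).2 ?_ h
    rintro g (rfl | rfl) <;> assumption
  have hth' : ∀ n, rho (theta n) ∈ H56.J4.HH.map rho := fun n => by
    rw [theta_def]; exact hth n 11
  haveI : Finite (H56.J4.HH.map rho) :=
    Finite.of_surjective (rho.subgroupMap H56.J4.HH) (rho.subgroupMap_surjective _)
  refine le_trans ?_ (Nat.card_le_card_of_surjective _ (rho.subgroupMap_surjective _))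
  rw [← card_pairs']
  exact card_le_of_factor (H56.J4.HH.map rho) (fun n => rho (theta n.val)) psi
    (fun n => hth' n.val) hps fun a b σ τ h => pair_inj h

/-- The order of `J4`, and the index and order of `⟨x, y, h⟩`, given the upper bound for the
latter. -/
theorem card_eq [Finite J] (hHH : Nat.card H56.J4.HH ≤ 501397585920) :
    Nat.card J = 86775571046077562880 ∧ H56.J4.HH.index = 173067389 := by
  have hH : Nat.card H56.J4.HH = 501397585920 := le_antisymm hHH card_HH_ge
  have h := H56.J4.HH.card_mul_index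
  rw [hH] at h
  have hd := dvd_card
  rw [← h] at hd
  obtain ⟨hi0, hi⟩ := H56.J4.HH_index_le
  have h11 : 11 ^ 2 * 29 * 31 * 37 * 43 ∣ H56.J4.HH.index := by
    have h45 : 11 ^ 2 * 29 * 31 * 37 * 43 ∣ 45581598720 * H56.J4.HH.index := by
      refine Nat.dvd_of_mul_dvd_mul_left (show 0 < 11 by norm_num) ?_
      rw [show 11 * (45581598720 * H56.J4.HH.index) = 501397585920 * H56.J4.HH.index by ring]
      exact Nat.dvd_trans (dvd_of_eq (by norm_num)) hd
    exact Nat.Coprime.dvd_of_dvd_mul_left (by norm_num) h45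
  have hidx : H56.J4.HH.index = 173067389 :=
    le_antisymm hi (by simpa using Nat.le_of_dvd (Nat.pos_of_ne_zero hi0) h11)
  exact ⟨by rw [← h, hidx], hidx⟩

end Cfsg.Agent.H46.J4Low
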