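import Cfsg.Agent.H46.J4Low.Nodes1
import Cfsg.Agent.H46.J4Out.EGroup

/-!
Divisors of the order of the presented group `J4` read off its representation, and the order of the
normal 2-subgroup.
-/

set_option autoImplicit false
set_option maxRecDepth 100000

namespace Cfsg.Agent.H46.J4Low

open Cfsg.Agent.H45 Cfsg.Agent.H45.J4Rep Cfsg.Agent.H46.J4Out

theorem rho_eq {g h : J} {a b : ℕ} (ha : R g a) (hb : R h b) (e : a = b) : rho g = rho h :=
  Units.ext ((e ▸ ha).trans hb.symm)

theorem rho_ne {g h : J} {a b : ℕ} (ha : R g a) (hb : R h b) (e : differs a b = true) :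
    rho g ≠ rho h := by
  obtain ⟨k, hk, hd⟩ := List.any_eq_true.1 e
  intro he
  have h1 : J4Mat.toMat 112 a = J4Mat.toMat 112 b :=
    ha.symm.trans ((congrArg Units.val he).trans hb)
  have hk' := List.mem_range.1 hk
  have h2 := congrFun (congrFun h1 ⟨k / 112, Nat.div_lt_of_lt_mul hk'⟩)
    ⟨k % 112, Nat.mod_lt _ (by norm_num)⟩
  simp only [J4Mat.toMat, Nat.div_add_mod] at h2
  revert hd h2
  cases a.testBit k <;> cases b.testBit k <;> simp [J4Mat.bz]

theorem prime_dvd [Finite J] {g : J} {n p : ℕ} (hp : p.Prime) (hg : R g n)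
    (h1 : J4Mat.powN 112 n p = J4Mat.oneN 112 112)
    (h2 : differs n (J4Mat.oneN 112 112) = true) : p ∣ Nat.card J := by
  haveI : Fact p.Prime := ⟨hp⟩
  have ho : orderOf (rho g) = p := orderOf_eq_prime
    (by rw [← map_pow, ← map_one rho]; exact rho_eq (hg.pow p) R_one h1)
    (by rw [← map_one rho]; exact rho_ne hg R_one h2)
  exact ho ▸ (orderOf_map_dvd rho g).trans (orderOf_dvd_natCard g)

theorem dvd_step {Γ : Type*} [Group Γ] [Finite Γ] {p : ℕ} (hp : p.Prime) (K Z : Subgroup Γ)
    {g : Γ} (hZK : Z ≤ K) (hg : g ∈ K) (hn : g ∈ Subgroup.normalizer (Z : Set Γ)) (hgp : g ^ p = 1)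
    (hgZ : g ∉ Z) : p * Nat.card Z ∣ Nat.card K := by
  haveI : Fact p.Prime := ⟨hp⟩
  set N := K ⊓ Subgroup.normalizer (Z : Set Γ)
  have hZN : Z ≤ N := le_inf hZK Subgroup.le_normalizer
  haveI : (Z.subgroupOf N).Normal :=
    (Subgroup.normal_subgroupOf_iff_le_normalizer hZN).2 inf_le_right
  have hq : orderOf (QuotientGroup.mk' (Z.subgroupOf N) ⟨g, hg, hn⟩) = p := by
    refine orderOf_eq_prime ?_ ?_
    · rw [← map_pow, ← map_one (QuotientGroup.mk' (Z.subgroupOf N))]
      exact congrArg _ (Subtype.ext hgp)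
    · intro h
      exact hgZ (Subgroup.mem_subgroupOf.1 ((QuotientGroup.eq_one_iff _).1 h))
  refine dvd_trans ?_ (Subgroup.card_dvd_of_le (inf_le_left : N ≤ K))
  rw [Subgroup.card_eq_card_quotient_mul_card_subgroup (Z.subgroupOf N),
    Nat.card_congr (Subgroup.subgroupOfEquivOfLe hZN).toEquiv]
  exact Nat.mul_dvd_mul_right (hq ▸ orderOf_dvd_natCard _) _

/-- packed matrix of the commutator -/
noncomputable def scN : ℕ :=
  J4Mat.mulN 112 (J4Mat.mulN 112 (J4Mat.mulN 112 (J4Mat.powN 112 esN 10) (J4Mat.powN 112 sBN 10))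
    esN) sBN

theorem eleven_check :
    J4Mat.powN 112 esN 11 = J4Mat.oneN 112 112 ∧ J4Mat.powN 112 sBN 11 = J4Mat.oneN 112 112 ∧
    J4Mat.powN 112 scN 11 = J4Mat.oneN 112 112 ∧
    J4Mat.mulN 112 scN esN = J4Mat.mulN 112 esN scN ∧
    J4Mat.mulN 112 scN sBN = J4Mat.mulN 112 sBN scN ∧
    J4Mat.mulN 112 esN sBN = J4Mat.mulN 112 sBN (J4Mat.mulN 112 esN scN) := by
  decide +kernel

theorem eleven_ne_check : ((List.range 11).all fun k => differs scN (J4Mat.powN 112 esN k)) = true ∧
    differs esN (J4Mat.oneN 112 112) = true ∧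
    differs (J4Mat.mulN 112 esN sBN) (J4Mat.mulN 112 sBN esN) = true := by
  decide +kernel

theorem cube_dvd_of {Γ : Type*} [Group Γ] [Finite Γ] {p : ℕ} (hp : p.Prime) (a b c : Γ)
    (ha : a ^ p = 1) (hb : b ^ p = 1) (hc : c ^ p = 1) (hca : c * a = a * c) (hcb : c * b = b * c)
    (hab : a * b = b * (a * c)) (hne : a * b ≠ b * a) (ha1 : a ≠ 1)
    (hcA : ∀ k < p, c ≠ a ^ k) : p ^ 3 ∣ Nat.card Γ := by
  haveI : Fact p.Prime := ⟨hp⟩
  have hoa : orderOf a = p := orderOf_eq_prime ha ha1
  have hcA' : c ∉ Subgroup.zpowers a := by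
    intro h
    obtain ⟨k, hk⟩ := mem_powers_iff_mem_zpowers.2 h
    have hk' : a ^ k = c := hk
    rw [← pow_mod_orderOf, hoa] at hk'
    exact hcA _ (Nat.mod_lt _ hp.pos) hk'.symm
  set Z : Subgroup Γ := Subgroup.closure {a, c}
  have haZ : a ∈ Z := Subgroup.subset_closure (by simp)
  have hcZ : c ∈ Z := Subgroup.subset_closure (by simp)
  have hcentral : ∀ z ∈ Z, z * a = a * z := by
    intro z hz
    induction hz using Subgroup.closure_induction with
    | mem x hx =>
      rcases hx with rfl | rfl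
      · rfl
      · exact hca
    | one => simp
    | mul x y _ _ hx hy => rw [mul_assoc, hy, ← mul_assoc, hx, mul_assoc]
    | inv x _ hx => exact (Commute.inv_left hx)
  have hbZ : b ∉ Z := fun h => hne (hcentral b h).symm
  have hbn : b ∈ Subgroup.normalizer (Z : Set Γ) := by
    rw [← inv_mem_iff]
    refine Subgroup.mem_normalizer_fintype fun z hz => ?_
    rw [inv_inv]
    induction hz using Subgroup.closure_induction with
    | mem x hx =>
      rcases hx with rfl | rfl
      · rw [show b⁻¹ * x * b = x * c by rw [mul_assoc, inv_mul_eq_iff_eq_mul, hab]]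
        exact mul_mem haZ hcZ
      · rw [show b⁻¹ * x * b = x by rw [mul_assoc, inv_mul_eq_iff_eq_mul, hcb]]
        exact hcZ
    | one => simp
    | mul x y _ _ hx hy =>
      rw [show b⁻¹ * (x * y) * b = b⁻¹ * x * b * (b⁻¹ * y * b) by group]
      exact mul_mem hx hy
    | inv x _ hx =>
      rw [show b⁻¹ * x⁻¹ * b = (b⁻¹ * x * b)⁻¹ by group]
      exact inv_mem hx
  have hcn : c ∈ Subgroup.normalizer (Subgroup.zpowers a : Set Γ) := by
    refine Subgroup.mem_normalizer_fintype fun z hz => ?_
    obtain ⟨k, rfl⟩ := Subgroup.mem_zpowers_iff.1 hz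
    rw [((show Commute c a from hca).zpow_right k).eq, mul_inv_cancel_right]
    exact hz
  have h2 := dvd_step hp Z (Subgroup.zpowers a) (Subgroup.zpowers_le.2 haZ) hcZ hcn hc hcA'
  rw [Nat.card_zpowers, hoa] at h2
  have h3 := dvd_step hp ⊤ Z le_top (Subgroup.mem_top b) hbn hb hbZ
  rw [Subgroup.card_top] at h3
  rw [pow_succ', pow_two]
  exact (Nat.mul_dvd_mul_left p h2).trans h3

/-- the commutator -/
noncomputable def sc : J := es ^ 10 * sB ^ 10 * es * sB

theorem r_sc : R sc scN := (((r_es.pow 10).mul' (r_sB.pow 10)).mul' r_es).mul' r_sB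

/-- an element in the range of the representation -/
noncomputable def img' : J →* rho.range := rho.rangeRestrict

theorem img_eq {g h : J} {a b : ℕ} (ha : R g a) (hb : R h b) (e : a = b) : img' g = img' h :=
  Subtype.ext (rho_eq ha hb e)

theorem img_ne {g h : J} {a b : ℕ} (ha : R g a) (hb : R h b) (e : differs a b = true) :
    img' g ≠ img' h := fun he => rho_ne ha hb e (congrArg Subtype.val he)

theorem eleven_cube_dvd [Finite J] : 11 ^ 3 ∣ Nat.card J := by
  haveI : Finite rho.range := Finite.of_surjective rho.rangeRestrict rho.rangeRestrict_surjective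
  obtain ⟨e1, e2, e3, e4, e5, e6⟩ := eleven_check
  obtain ⟨n1, n2, n3⟩ := eleven_ne_check
  refine dvd_trans (cube_dvd_of (p := 11) (by norm_num) (img' es) (img' sB) (img' sc)
    ?_ ?_ ?_ ?_ ?_ ?_ ?_ ?_ ?_) (Subgroup.card_range_dvd rho)
  · rw [← map_pow, ← map_one img']; exact img_eq (r_es.pow 11) R_one e1
  · rw [← map_pow, ← map_one img']; exact img_eq (r_sB.pow 11) R_one e2
  · rw [← map_pow, ← map_one img']; exact img_eq (r_sc.pow 11) R_one e3
  · rw [← map_mul, ← map_mul]; exact img_eq (r_sc.mul' r_es) (r_es.mul' r_sc) e4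
  · rw [← map_mul, ← map_mul]; exact img_eq (r_sc.mul' r_sB) (r_sB.mul' r_sc) e5
  · rw [← map_mul, ← map_mul, ← map_mul]
    exact img_eq (r_es.mul' r_sB) (r_sB.mul' (r_es.mul' r_sc)) e6
  · rw [← map_mul, ← map_mul]; exact img_ne (r_es.mul' r_sB) (r_sB.mul' r_es) n3
  · rw [← map_one img']; exact img_ne r_es R_one n2
  · intro k hk
    rw [← map_pow]
    exact img_ne r_sc (r_es.pow k) (List.all_eq_true.1 n1 k (List.mem_range.2 hk))

theorem prime_checks :
    (J4Mat.powN 112 o29N 29 = J4Mat.oneN 112 112 ∧ differs o29N (J4Mat.oneN 112 112) = true) ∧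
    (J4Mat.powN 112 o31N 31 = J4Mat.oneN 112 112 ∧ differs o31N (J4Mat.oneN 112 112) = true) ∧
    (J4Mat.powN 112 o37N 37 = J4Mat.oneN 112 112 ∧ differs o37N (J4Mat.oneN 112 112) = true) ∧
    (J4Mat.powN 112 o43N 43 = J4Mat.oneN 112 112 ∧ differs o43N (J4Mat.oneN 112 112) = true) := by
  decide +kernel

/-- The order of `J4` is divisible by `11^3 * 29 * 31 * 37 * 43`. -/
theorem dvd_card [Finite J] : 11 ^ 3 * 29 * 31 * 37 * 43 ∣ Nat.card J := by
  obtain ⟨⟨a1, a2⟩, ⟨b1, b2⟩, ⟨c1, c2⟩, ⟨d1, d2⟩⟩ := prime_checks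
  refine Nat.Coprime.mul_dvd_of_dvd_of_dvd (by norm_num) ?_ (prime_dvd (by norm_num) r_o43 d1 d2)
  refine Nat.Coprime.mul_dvd_of_dvd_of_dvd (by norm_num) ?_ (prime_dvd (by norm_num) r_o37 c1 c2)
  refine Nat.Coprime.mul_dvd_of_dvd_of_dvd (by norm_num) ?_ (prime_dvd (by norm_num) r_o31 b1 b2)
  exact Nat.Coprime.mul_dvd_of_dvd_of_dvd (by norm_num) eleven_cube_dvd
    (prime_dvd (by norm_num) r_o29 a1 a2)

/-! ### The elementary subgroup has at least 2048 elements -/

/-- evaluate a number before use -/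
noncomputable def forceAll : List ℕ → List ℕ → (List ℕ → Bool) → Bool
  | [], acc, k => k acc.reverse
  | a :: t, acc, k => force a fun a' => forceAll t (a' :: acc) k

/-- all products of selected basis elements differ from the identity except the empty one -/
noncomputable def thetaScan : ℕ → List ℕ → Bool
  | 0, l => l.tail.all fun n => differs n (J4Mat.oneN 112 112)
  | m + 1, l =>
    forceAll (l ++ l.map fun n => J4Mat.mulN 112 n (eN (10 - m))) [] fun l' => thetaScan m l'

theorem thetaScan_ok : thetaScan 11 [J4Mat.oneN 112 112] = true := by decide +kernel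

theorem forceAll_eq : ∀ (l acc : List ℕ) (k : List ℕ → Bool),
    forceAll l acc k = k (acc.reverse ++ l)
  | [], acc, k => by rw [forceAll, List.append_nil]
  | a :: t, acc, k => by
    rw [forceAll, force_eq, forceAll_eq t, List.reverse_cons, List.append_assoc,
      List.singleton_append]

theorem thetaNAux_congr (a b : ℕ) :
    ∀ k, (∀ i < k, a.testBit i = b.testBit i) → thetaNAux a k = thetaNAux b k := by
  intro k
  induction k with
  | zero => intro _; rfl
  | succ k ih =>
    intro h
    rw [thetaNAux, thetaNAux, h k (Nat.lt_succ_self k), ih fun i hi => h i (Nat.lt_succ_of_lt hi)]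

theorem thetaList_succ (k : ℕ) :
    (List.range (2 ^ (k + 1))).map (fun n => thetaNAux n (k + 1)) =
      (List.range (2 ^ k)).map (fun n => thetaNAux n k) ++
        ((List.range (2 ^ k)).map (fun n => thetaNAux n k)).map
          (fun n => J4Mat.mulN 112 n (eN k)) := by
  rw [pow_succ, Nat.mul_two, List.range_add, List.map_append, List.map_map, List.map_map]
  congr 1
  · refine List.map_congr_left fun n hn => ?_
    rw [thetaNAux, Nat.testBit_lt_two_pow (List.mem_range.1 hn)]
    rfl
  · refine List.map_congr_left fun n hn => ?_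
    simp only [Function.comp_apply]
    rw [thetaNAux, Nat.testBit_two_pow_add_eq, Nat.testBit_lt_two_pow (List.mem_range.1 hn),
      thetaNAux_congr (2 ^ k + n) n k fun i hi => Nat.testBit_two_pow_add_gt hi n]
    rfl

theorem thetaScan_spec : ∀ m k, m + k = 11 →
    thetaScan m ((List.range (2 ^ k)).map fun n => thetaNAux n k) = true →
    ((List.range 2048).map thetaN).tail.all (fun n => differs n (J4Mat.oneN 112 112)) = true := by
  intro m
  induction m with
  | zero =>
    intro k hk h
    obtain rfl : k = 11 := by omega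
    exact h
  | succ m ih =>
    intro k hk h
    rw [thetaScan, forceAll_eq, List.reverse_nil, List.nil_append,
      show 10 - m = k by omega, ← thetaList_succ] at h
    exact ih (k + 1) (by omega) h

theorem theta_ne_one {n : ℕ} (h0 : n ≠ 0) (hn : n < 2048) : theta n ≠ 1 := by
  have h := thetaScan_spec 11 0 rfl thetaScan_ok
  have hmem : thetaN n ∈ ((List.range 2048).map thetaN).tail := by
    rw [← List.map_tail]
    refine List.mem_map.2 ⟨n, ?_, rfl⟩
    rw [List.range_eq_range', List.tail_range', List.mem_range'_1]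
    omega
  exact (r_theta n).ne' R_one (List.all_eq_true.1 h _ hmem)

theorem rho_eF_comm (i j : ℕ) : Commute (rho (eF i)) (rho (eF j)) := by
  rcases Nat.lt_or_ge i 11 with hi | hi
  · rcases Nat.lt_or_ge j 11 with hj | hj
    · have h := List.all_eq_true.1 (List.all_eq_true.1 comm_checks i (List.mem_range.2 hi)) j
        (List.mem_range.2 hj)
      show rho (eF i) * rho (eF j) = rho (eF j) * rho (eF i)
      rw [← map_mul, ← map_mul]
      exact rho_eq ((r_eF i).mul' (r_eF j)) ((r_eF j).mul' (r_eF i)) (eq_of_beq h)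
    · rw [eF_of_le hj, map_one]; exact Commute.one_right _
  · rw [eF_of_le hi, map_one]; exact Commute.one_left _

theorem rho_eF_sq (i : ℕ) : rho (eF i) * rho (eF i) = 1 := by
  rcases Nat.lt_or_ge i 11 with hi | hi
  · rw [← map_mul, ← map_one rho]
    exact rho_eq ((r_eF i).mul' (r_eF i)) R_one
      (eq_of_beq (List.all_eq_true.1 sq_checks i (List.mem_range.2 hi)))
  · rw [eF_of_le hi, map_one, one_mul]

theorem rho_thetaAux_xor (a b : ℕ) :
    ∀ k, rho (thetaAux (a ^^^ b) k) = rho (thetaAux a k) * rho (thetaAux b k) := by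
  intro k
  induction k with
  | zero => simp [thetaAux]
  | succ k ih =>
    have hcomm : ∀ m, Commute (rho (eF k)) (rho (thetaAux b m)) := by
      intro m
      induction m with
      | zero => rw [thetaAux, map_one]; exact Commute.one_right _
      | succ m ihm =>
        rw [thetaAux, map_mul]
        refine ihm.mul_right ?_
        split
        · exact rho_eF_comm k m
        · rw [map_one]; exact Commute.one_right _
    have hc := (hcomm k).eq
    simp only [thetaAux, map_mul, ih, Nat.testBit_xor]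
    cases a.testBit k <;> cases b.testBit k <;>
      simp only [Bool.xor_false, Bool.xor_true, Bool.not_false, Bool.not_true, Bool.false_eq_true,
        if_false, if_true, mul_one, map_one]
    · simp [mul_assoc]
    · rw [mul_assoc, ← hc, mul_assoc]
    · rw [mul_assoc (rho (thetaAux a k)), ← mul_assoc (rho (eF k)), hc,
        mul_assoc (rho (thetaAux b k)), rho_eF_sq, mul_one]

theorem theta_injOn {a b : ℕ} (ha : a < 2048) (hb : b < 2048)
    (h : rho (theta a) = rho (theta b)) : a = b := by
  by_contra hne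
  have hn : a ^^^ b < 2 ^ 11 := Nat.xor_lt_two_pow ha hb
  have h0 : a ^^^ b ≠ 0 := fun h0 => hne (Nat.eq_of_xor_eq_zero h0)
  have hmem : thetaN (a ^^^ b) ∈ ((List.range 2048).map thetaN).tail := by
    rw [← List.map_tail]
    refine List.mem_map.2 ⟨a ^^^ b, ?_, rfl⟩
    rw [List.range_eq_range', List.tail_range', List.mem_range'_1]
    norm_num at hn
    omega
  refine rho_ne (r_theta (a ^^^ b)) R_one
    (List.all_eq_true.1 (thetaScan_spec 11 0 rfl thetaScan_ok) _ hmem) ?_
  have hx : rho (theta (a ^^^ b)) = rho (theta a) * rho (theta b) := rho_thetaAux_xor a b 11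
  have hbb := rho_thetaAux_xor b b 11
  rw [Nat.xor_self] at hbb
  have h00 := rho_thetaAux_xor 0 0 11
  rw [Nat.xor_self] at h00
  rw [hx, h, map_one]
  exact hbb.symm.trans (left_eq_mul.1 h00)

end Cfsg.Agent.H46.J4Low
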